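import Groth.Agent.EtSums.Test
import Groth.Agent.EtFound.PullExt
import Groth.Agent.EtFound.Basic
import Groth.Agent.EtLimit.HTools
import Groth.Agent.SiteBase.QcSum
import Groth.Agent.IndExt.Additive

/-!
# Sums and generators in the derived category of étale sheaves
-/

set_option autoImplicit false
set_option linter.style.haveILetI false
set_option backward.isDefEq.respectTransparency.types false
set_option maxHeartbeats 1000000
universe u

open CategoryTheory CategoryTheory.Limits AlgebraicGeometry Opposite CategoryTheory.Abelian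

attribute [local instance] HasDerivedCategory.standard

namespace Groth.Agent.EtSums

open Groth.Agent.EtFound Groth.Agent.CompactDevissage Groth.Agent.TriCat
open scoped ZeroObject

/-- extensions out of a sheaf represented by a quasi-compact quasi-separated étale scheme commute with sums -/
theorem sumGen {X Z : Scheme.{u}} [CompactSpace Z] [QuasiSeparatedSpace Z] (k : Z ⟶ X) [AlgebraicGeometry.Etale k]
    [PreservesFiniteLimits (EtCoh.pull k)] {P : EtCoh.Ab X} (c : EtCoh.const Z ℤ ⟶ (EtCoh.pull k).obj P)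
    (hc : ∀ F n, Function.Bijective (EtMVLib.hp (EtCoh.pull k) c F n)) (ι : Type (u + 1)) :
    SumGen ι P := by
  intro n H x
  haveI : PreservesFilteredColimitsOfSize.{u + 1, u + 1} (EtCoh.HF Z n) :=
    ⟨fun J _ _ => EtLC12.QcqsAcyclic.preservesColimitsOfShape_HF Z n J⟩
  haveI : PreservesFiniteCoproducts (EtCoh.HF Z n) := inferInstance
  haveI := IndExt.preservesCoproducts_of_finite_of_filtered (EtCoh.HF Z n) ι
  haveI : PreservesColimitsOfSize.{u + 1, u + 1} (EtCoh.pull k) := (EtCoh.pullPushAdj k).leftAdjoint_preservesColimits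
  obtain ⟨s, y, hy⟩ := QcSum.exists_finsum
    (isColimitOfPreserves (EtCoh.pull k ⋙ EtCoh.HF Z n) (coproductIsCoproduct H)) (EtMVLib.hp (EtCoh.pull k) c _ n x)
  choose y' hy' using fun i => (hc (H i) n).2 (y i)
  have hnat : ∀ {A B : EtCoh.Ab X} (a : A ⟶ B) (z : Ext P A n),
      EtMVLib.hp (EtCoh.pull k) c B n (z.comp (Ext.mk₀ a) (add_zero n)) =
        EtLimit.hmap ((EtCoh.pull k).map a) n (EtMVLib.hp (EtCoh.pull k) c A n z) := fun {A B} a z => by
    haveI : (EtCoh.pull k).Additive := Functor.additive_of_preserves_binary_products _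
    show (Ext.mk₀ c).comp ((z.comp (Ext.mk₀ a) (add_zero n)).mapExactFunctor (EtCoh.pull k)) (zero_add n) =
      ((Ext.mk₀ c).comp (z.mapExactFunctor (EtCoh.pull k)) (zero_add n)).comp _ (add_zero n)
    rw [Ext.mapExactFunctor_comp, Ext.mapExactFunctor_mk₀, Ext.comp_assoc_of_third_deg_zero]
  refine ⟨s, y', (hc _ n).1 ?_⟩
  refine hy.trans ?_
  rw [map_sum]
  refine Finset.sum_congr rfl fun i _ => ?_
  rw [hnat, hy']
  rfl

/-- extensions vanish above the cohomological dimension -/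
theorem subsingleton_ext {X Z : Scheme.{u}} (k : Z ⟶ X) [PreservesFiniteLimits (EtCoh.pull k)] {P : EtCoh.Ab X}
    (c : EtCoh.const Z ℤ ⟶ (EtCoh.pull k).obj P)
    (hc : ∀ F n, Function.Bijective (EtMVLib.hp (EtCoh.pull k) c F n)) {d : ℕ}
    (hd : ∀ (F : EtCoh.Ab Z) (q : ℕ), d < q → Subsingleton (EtCoh.H Z F q)) (F : EtCoh.Ab X) (q : ℕ) (hq : d < q) :
    Subsingleton (Ext P F q) :=
  haveI := hd ((EtCoh.pull k).obj F) q hq
  (hc F q).1.subsingleton

variable {X : Scheme.{u}}

/-- the shifts of the free sheaves on quasi-compact quasi-separated étale schemes -/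
def IsGen (E : DerivedCategory (EtCoh.Ab X)) : Prop :=
  ∃ (U : X.Etale) (n : ℤ), CompactSpace ↥U.left ∧ QuasiSeparatedSpace ↥U.left ∧
    Nonempty (E ≅ ((DerivedCategory.singleFunctor (EtCoh.Ab X) 0).obj (freeOn U))⟦n⟧)

theorem isGen_shift (E : DerivedCategory (EtCoh.Ab X)) (hE : IsGen E) (m : ℤ) : IsGen (E⟦m⟧) := by
  obtain ⟨U, n, h1, h2, ⟨e⟩⟩ := hE
  exact ⟨U, n + m, h1, h2, ⟨(shiftFunctor _ m).mapIso e ≪≫ ((shiftFunctorAdd _ n m).app _).symm⟩⟩

/-- the free sheaves detect zero objects -/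
theorem isZero_of_gen (N : DerivedCategory (EtCoh.Ab X)) (h : ∀ E, IsGen E → ∀ φ : E ⟶ N, φ = 0) : IsZero N := by
  obtain ⟨I, f, hI, hf, -, hinj⟩ :=
    exists_kInjective_resolution'.{u + 1} (DerivedCategory.Q.objPreimage N)
  haveI := hI
  haveI : IsIso (DerivedCategory.Q.map f) := (DerivedCategory.isIso_Q_map_iff_quasiIso _ _).2 hf
  let e : N ≅ DerivedCategory.Q.obj I :=
    (DerivedCategory.Q.objObjPreimageIso N).symm ≪≫ asIso (DerivedCategory.Q.map f)
  suffices hI0 : ∀ i, I.ExactAt i by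
    have hzero : IsZero (0 : CochainComplex (EtCoh.Ab X) ℤ) := isZero_zero _
    haveI : QuasiIso (0 : I ⟶ (0 : CochainComplex (EtCoh.Ab X) ℤ)) := ⟨fun i => by
      rw [quasiIsoAt_iff_exactAt' _ _ (HomologicalComplex.ExactAt.of_isZero
        ((HomologicalComplex.eval (EtCoh.Ab X) (ComplexShape.up ℤ) i).map_isZero hzero))]
      exact hI0 i⟩
    haveI : IsIso (DerivedCategory.Q.map (0 : I ⟶ (0 : CochainComplex (EtCoh.Ab X) ℤ))) :=
      (DerivedCategory.isIso_Q_map_iff_quasiIso _ _).2 inferInstance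
    exact (DerivedCategory.Q.map_isZero hzero).of_iso (e ≪≫ asIso (DerivedCategory.Q.map (0 : I ⟶ _)))
  intro i
  refine (I.exactAt_iff' (i - 1) i (i + 1) (by simp) (by simp)).2 ?_
  rw [ShortComplex.exact_iff_epi_toCycles]
  let S := I.sc' (i - 1) i (i + 1)
  refine (Sheaf.isLocallySurjective_iff_epi' AddCommGrpCat.{u + 1} S.toCycles).1 ⟨fun {U} s => ?_⟩
  refine (mem_topology_iff _).2 fun x => ?_
  obtain ⟨O, hO, hxO, -⟩ := exists_isAffineOpen_mem_and_subset (x := x) (U := (⊤ : U.left.Opens)) trivial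
  haveI : AlgebraicGeometry.Etale U.hom := U.prop
  haveI : IsAffine ↑O := hO
  let W : X.Etale := Scheme.Etale.mk (O.ι ≫ U.hom)
  let g : W ⟶ U := MorphismProperty.Over.homMk O.ι rfl
  refine ⟨W, g, ⟨x, hxO⟩, ?_, rfl⟩
  obtain ⟨ψ, hψ⟩ := exists_free_hom (W := W) (S.cycles.obj.map g.op s)
  have hgen : IsGen (DerivedCategory.Q.obj ((HomologicalComplex.single (EtCoh.Ab X) (ComplexShape.up ℤ) i).obj (freeOn W))) :=
    ⟨W, -i, inferInstanceAs (CompactSpace ↥(↑O : Scheme)), inferInstanceAs (QuasiSeparatedSpace ↥(↑O : Scheme)),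
      ⟨((DerivedCategory.singleFunctorIsoCompQ (EtCoh.Ab X) i).app (freeOn W)).symm ≪≫
        (((DerivedCategory.singleFunctors (EtCoh.Ab X)).shiftIso (-i) i 0 (by omega)).app (freeOn W)).symm⟩⟩
  have hd : (ψ ≫ S.iCycles) ≫ I.d i (i + 1) = 0 := by
    rw [Category.assoc]
    exact (congrArg (ψ ≫ ·) S.iCycles_g).trans comp_zero
  let m : (HomologicalComplex.single (EtCoh.Ab X) (ComplexShape.up ℤ) i).obj (freeOn W) ⟶ I :=
    HomologicalComplex.mkHomFromSingle (ψ ≫ S.iCycles) (fun j hj => by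
      obtain rfl : i + 1 = j := hj
      exact hd)
  obtain ⟨ht⟩ : Nonempty (Homotopy m 0) := by
    have h0 : DerivedCategory.Q.map m = 0 := by
      have := h _ hgen (DerivedCategory.Q.map m ≫ e.inv)
      rwa [← cancel_mono e.inv, zero_comp]
    refine ⟨HomotopyCategory.homotopyOfEq _ _ ?_⟩
    refine (CochainComplex.IsKInjective.Qh_map_bijective _ I).1 ?_
    rw [Functor.map_zero, Functor.map_zero]
    rw [← cancel_mono ((DerivedCategory.quotientCompQhIso (EtCoh.Ab X)).hom.app I), zero_comp]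
    exact ((DerivedCategory.quotientCompQhIso (EtCoh.Ab X)).hom.naturality m).trans (by rw [h0, comp_zero])
  let eW := HomologicalComplex.singleObjXSelf (ComplexShape.up ℤ) i (freeOn W)
  let y : freeOn W ⟶ S.X₁ := eW.inv ≫ ht.hom i (i - 1)
  have hy : y ≫ S.f = ψ ≫ S.iCycles := by
    have hc := ht.comm i
    rw [dNext_eq _ (show (ComplexShape.up ℤ).Rel i (i + 1) from rfl),
      prevD_eq _ (show (ComplexShape.up ℤ).Rel (i - 1) i by simp), HomologicalComplex.zero_f, add_zero] at hc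
    erw [HomologicalComplex.single_obj_d, zero_comp, zero_add] at hc
    show (eW.inv ≫ ht.hom i (i - 1)) ≫ I.d (i - 1) i = _
    rw [Category.assoc, ← hc]
    simp [m, eW]; rfl
  have hy' : y ≫ S.toCycles = ψ := (cancel_mono S.iCycles).1 (by rw [Category.assoc, S.toCycles_i, hy])
  exact ⟨freeVal y, by rw [← freeVal_comp, hy', hψ]⟩

end Groth.Agent.EtSums
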