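import Groth.Agent.EtSums.Gen
import Groth.Agent.AcycBase.Adj
import Groth.Prelude.Def_EtBCD

/-!
# Direct images commute with sums under finite cohomological dimension
-/

set_option autoImplicit false
set_option linter.style.haveILetI false
set_option backward.isDefEq.respectTransparency.types false
set_option maxHeartbeats 1000000
universe u

open CategoryTheory CategoryTheory.Limits AlgebraicGeometry Opposite

attribute [local instance] HasDerivedCategory.standard

namespace Groth.Agent.EtSums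

open Groth.Agent.EtFound Groth.Agent.CompactDevissage

/-- finite cohomological dimension gives finiteness of maps into sums -/
theorem fin_of_cd {X Z : Scheme.{u}} [CompactSpace Z] [QuasiSeparatedSpace Z] (k : Z ⟶ X) [AlgebraicGeometry.Etale k]
    [PreservesFiniteLimits (EtCoh.pull k)] {P : EtCoh.Ab X} (c : EtCoh.const Z ℤ ⟶ (EtCoh.pull k).obj P)
    (hc : ∀ F n, Function.Bijective (EtMVLib.hp (EtCoh.pull k) c F n))
    (hd : ∃ d : ℕ, ∀ (F : EtCoh.Ab Z) (q : ℕ), d < q → Subsingleton (EtCoh.H Z F q))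
    {ι : Type (u + 1)} (n : ℤ) (M : ι → DerivedCategory (EtCoh.Ab X)) [HasCoproduct M] :
    Fin' (((DerivedCategory.singleFunctor (EtCoh.Ab X) 0).obj P)⟦n⟧) M := by
  haveI := HasFiniteBiproducts.of_hasFiniteProducts (C := EtCoh.Ab X)
  haveI : AB4OfSize.{u + 1} (EtCoh.Ab X) := AB4.of_AB5 _
  haveI : HasColimitsOfShape (Discrete ι) (DerivedCategory (EtCoh.Ab X)) := TriCat.hasColimitsOfShape_derivedCategory
  obtain ⟨d, hd⟩ := hd
  exact fin_shift (fun M' => fin_of_bound (sumGen k c hc ι) (-(d : ℤ) - 2)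
    (fun N hN φ => eq_zero_of_isLE d (fun F q hq => subsingleton_ext k c hc hd F q hq) N hN φ) M') n M

/-- direct images preserve sums under finite cohomological dimension -/
theorem preservesCoproducts_RpushEt {X S : Scheme.{u}} (f : X ⟶ S) [QuasiCompact f] [QuasiSeparated f]
    [DCoh.HasRpushEt X f]
    (hS : ∀ U : S.Etale, CompactSpace ↥(U.left) → QuasiSeparatedSpace ↥(U.left) →
      ∃ d : ℕ, ∀ (F : EtCoh.Ab U.left) (q : ℕ), d < q → Subsingleton (EtCoh.H U.left F q))
    (hX : ∀ U : X.Etale, CompactSpace ↥(U.left) → QuasiSeparatedSpace ↥(U.left) →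
      ∃ d : ℕ, ∀ (F : EtCoh.Ab U.left) (q : ℕ), d < q → Subsingleton (EtCoh.H U.left F q))
    (ι : Type (u + 1)) : PreservesColimitsOfShape (Discrete ι) (DCoh.RpushEt X f) := by
  haveI hall : ∀ {A B : Scheme.{u}} (g : A ⟶ B), PreservesFiniteLimits (EtCoh.pull g) :=
    fun g => pull_preservesFiniteLimits g
  obtain ⟨adj⟩ := AcycBase.nonempty_pullD_adj f
  haveI : HasFiniteBiproducts (DerivedCategory (EtCoh.Ab X)) := HasFiniteBiproducts.of_hasFiniteProducts
  haveI : (EtBC.pullD f).Additive := inferInstance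
  haveI : (DCoh.RpushEt X f).Additive := adj.right_adjoint_additive
  haveI : HasColimitsOfShape (Discrete ι) (DerivedCategory (EtCoh.Ab X)) :=
    haveI : AB4OfSize.{u + 1} (EtCoh.Ab X) := AB4.of_AB5 _
    TriCat.hasColimitsOfShape_derivedCategory
  haveI : HasColimitsOfShape (Discrete ι) (DerivedCategory (EtCoh.Ab S)) :=
    haveI : AB4OfSize.{u + 1} (EtCoh.Ab S) := AB4.of_AB5 _
    TriCat.hasColimitsOfShape_derivedCategory
  refine preservesCoproducts (EtBC.pullD f) (DCoh.RpushEt X f) adj IsGen isGen_shift isZero_of_gen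
    (fun E hE M => ?_) (fun E hE M => ?_)
  · obtain ⟨U, n, h1, h2, ⟨e⟩⟩ := hE
    haveI : AlgebraicGeometry.Etale U.hom := U.prop
    haveI : IsIso (𝟙 U.left) := IsIso.id _
    haveI : CompactSpace ↥((𝟭 Scheme).obj U.left) := h1
    haveI : QuasiSeparatedSpace ↥((𝟭 Scheme).obj U.left) := h2
    haveI : HasCoproduct M := by unfold HasCoproduct; exact HasColimitsOfShape.has_colimit _
    refine fin_of_iso e.symm M ?_
    exact fin_of_cd U.hom (ptGen U.hom U (𝟙 U.left) (Category.id_comp _))
      (fun F q => ptMap_bijective U.hom U (𝟙 U.left) (Category.id_comp _) F q) (hS U h1 h2) n M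
  · obtain ⟨U, n, h1, h2, ⟨e⟩⟩ := hE
    let U' : X.Etale := (EtCoh.bc f).obj U
    haveI : AlgebraicGeometry.Etale U'.hom := U'.prop
    haveI : IsIso (𝟙 U'.left) := IsIso.id _
    haveI : CompactSpace ↥((𝟭 Scheme).obj U.left) := h1
    haveI : QuasiSeparatedSpace ↥((𝟭 Scheme).obj U.left) := h2
    haveI : QuasiCompact (pullback.fst U.hom f) :=
      MorphismProperty.pullback_fst (P := @QuasiCompact) U.hom f ‹QuasiCompact f›
    haveI : QuasiSeparated (pullback.fst U.hom f) :=
      MorphismProperty.pullback_fst (P := @QuasiSeparated) U.hom f ‹QuasiSeparated f›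
    have h1' : CompactSpace ↥U'.left :=
      @QuasiCompact.compactSpace_of_compactSpace _ _ (pullback.fst U.hom f) ‹_› h1
    have h2' : QuasiSeparatedSpace ↥U'.left :=
      @quasiSeparatedSpace_of_quasiSeparated _ _ (pullback.fst U.hom f) h2 ‹_›
    haveI : CompactSpace ↥((𝟭 Scheme).obj U'.left) := h1'
    haveI : QuasiSeparatedSpace ↥((𝟭 Scheme).obj U'.left) := h2'
    let eL : (EtBC.pullD f).obj E ≅
        ((DerivedCategory.singleFunctor (EtCoh.Ab X) 0).obj ((EtCoh.pull f).obj (freeOn U)))⟦n⟧ :=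
      (EtBC.pullD f).mapIso e ≪≫ ((EtBC.pullD f).commShiftIso n).app _ ≪≫
        (shiftFunctor _ n).mapIso ((Functor.mapDerivedCategorySingleFunctor (EtCoh.pull f) 0).app (freeOn U))
    haveI : HasCoproduct M := by unfold HasCoproduct; exact HasColimitsOfShape.has_colimit _
    refine fin_of_iso eL.symm M ?_
    exact fin_of_cd U'.hom (bcGen U'.hom f U (𝟙 U'.left) (Category.id_comp _))
      (fun F q => hp_bcGen_bijective U'.hom f U (𝟙 U'.left) (Category.id_comp _) F q) (hX U' h1' h2') n M

end Groth.Agent.EtSums
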