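import Groth.Agent.SiteBase.CompactDevissage
import Mathlib.CategoryTheory.Adjunction.Basic
import Mathlib.CategoryTheory.Preadditive.AdditiveFunctor

/-!
# Right adjoints which commute with sums
-/

set_option autoImplicit false
set_option linter.style.haveILetI false

universe t v v' u u'

open CategoryTheory CategoryTheory.Limits CategoryTheory.Pretriangulated
open Groth.Agent.TriCat Groth.Agent.CompactDevissage

namespace Groth.Agent.EtSums

variable {D : Type u} [Category.{v} D] [Preadditive D] {J : Type t}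

/-- finiteness passes to shifts -/
theorem fin_shift [HasShift D ℤ] [∀ n : ℤ, (shiftFunctor D n).Additive] [HasColimitsOfShape (Discrete J) D] {K : D}
    (h : ∀ M : J → D, Fin' K M) (n : ℤ) (M : J → D) : Fin' (K⟦n⟧) M := by
  intro f
  let F := shiftFunctor D (-n)
  let e := PreservesCoproduct.iso F M
  have hι : ∀ i, Sigma.ι _ i ≫ e.inv = F.map (Sigma.ι M i) := fun i => by
    simp [e, PreservesCoproduct.inv_hom, ι_comp_sigmaComparison]
  obtain ⟨g, hg⟩ : ∃ g : K ⟶ (∐ M)⟦-n⟧, g⟦n⟧' ≫ (shiftFunctorCompIsoId D (-n) n (by simp)).hom.app _ = f := by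
    refine ⟨(shiftFunctorCompIsoId D n (-n) (by simp)).inv.app K ≫ f⟦-n⟧', ?_⟩
    rw [Functor.map_comp, Category.assoc]
    erw [(shiftFunctorCompIsoId D (-n) n (by simp)).hom.naturality f]
    rw [Functor.id_map, ← Category.assoc]
    rw [shift_shiftFunctorCompIsoId_inv_app, Iso.inv_hom_id_app]
    simp
  obtain ⟨s, a, ha⟩ := h (fun i => F.obj (M i)) (g ≫ e.hom)
  have hg' : g = ∑ i ∈ s, a i ≫ F.map (Sigma.ι M i) := by
    rw [← cancel_mono e.hom, ha, Preadditive.sum_comp]
    refine Finset.sum_congr rfl fun i _ => ?_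
    rw [← hι i, Category.assoc, Category.assoc, Iso.inv_hom_id, Category.comp_id]
  refine ⟨s, fun i => (a i)⟦n⟧' ≫ (shiftFunctorCompIsoId D (-n) n (by simp)).hom.app (M i), ?_⟩
  rw [← hg, hg', Functor.map_sum, Preadditive.sum_comp]
  refine Finset.sum_congr rfl fun i _ => ?_
  rw [Functor.map_comp, Category.assoc]
  erw [(shiftFunctorCompIsoId D (-n) n (by simp)).hom.naturality (Sigma.ι M i)]
  simp

/-- finiteness passes to isomorphic sources -/
theorem fin_of_iso {K K' : D} (e : K ≅ K') (M : J → D) [HasCoproduct M] (h : Fin' K M) : Fin' K' M := by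
  intro φ
  have := (h (e.hom ≫ φ)).precomp e.inv
  rwa [Iso.inv_hom_id_assoc] at this

variable {D' : Type u'} [Category.{v'} D'] [Preadditive D'] [HasZeroObject D'] [HasShift D' ℤ]
  [∀ n : ℤ, (shiftFunctor D' n).Additive] [Pretriangulated D']
  [HasColimitsOfShape (Discrete J) D] [HasColimitsOfShape (Discrete J) D']

/-- a right adjoint commutes with sums, given finiteness at a detecting family -/
theorem preservesCoproducts (L : D' ⥤ D) (R : D ⥤ D') [R.Additive] (adj : L ⊣ R) (S : D' → Prop)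
    (hshift : ∀ E, S E → ∀ n : ℤ, S (E⟦n⟧))
    (hdet : ∀ N : D', (∀ E, S E → ∀ φ : E ⟶ N, φ = 0) → IsZero N)
    (h' : ∀ E, S E → ∀ M : J → D', Fin' E M) (h : ∀ E, S E → ∀ M : J → D, Fin' (L.obj E) M) :
    PreservesColimitsOfShape (Discrete J) R := by
  suffices ∀ M : J → D, IsIso (sigmaComparison R M) by
    haveI : ∀ M : J → D, PreservesColimit (Discrete.functor M) R := fun M =>
      haveI := this M
      PreservesCoproduct.of_iso_comparison R M
    exact preservesColimitsOfShape_of_discrete R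
  intro M
  let c := sigmaComparison R M
  have surj : ∀ E, S E → ∀ φ : E ⟶ R.obj (∐ M), ∃ ψ, ψ ≫ c = φ := fun E hE φ => by
    obtain ⟨s, a, ha⟩ := h E hE M ((adj.homEquiv _ _).symm φ)
    refine ⟨∑ i ∈ s, (adj.homEquiv _ _ (a i)) ≫ Sigma.ι (fun i => R.obj (M i)) i, ?_⟩
    rw [Preadditive.sum_comp, ← (adj.homEquiv _ _).apply_symm_apply φ, ha, Adjunction.homEquiv_unit, Functor.map_sum,
      Preadditive.comp_sum]
    refine Finset.sum_congr rfl fun i _ => ?_
    rw [Category.assoc, ι_comp_sigmaComparison, Adjunction.homEquiv_unit, Category.assoc, R.map_comp]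
  have inj : ∀ E, S E → ∀ ψ : E ⟶ ∐ fun i => R.obj (M i), ψ ≫ c = 0 → ψ = 0 := fun E hE ψ hψ => by
    classical
    obtain ⟨s, a, rfl⟩ := h' E hE _ ψ
    refine Finset.sum_eq_zero fun j hj => ?_
    have hp : c ≫ R.map (coprodProj M j) = coprodProj (fun i => R.obj (M i)) j := Sigma.hom_ext _ _ fun i => by
      rw [ι_comp_sigmaComparison_assoc, ← R.map_comp]
      by_cases hij : i = j
      · subst hij
        rw [ι_coprodProj_self, ι_coprodProj_self, R.map_id]
      · rw [ι_coprodProj_ne hij, ι_coprodProj_ne hij, R.map_zero]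
    have h0 : (∑ i ∈ s, a i ≫ Sigma.ι (fun i => R.obj (M i)) i) ≫ coprodProj _ j = 0 := by
      rw [← hp, ← Category.assoc, hψ, zero_comp]
    rw [Preadditive.sum_comp, Finset.sum_eq_single_of_mem j hj (fun b _ hb => by
      rw [Category.assoc, ι_coprodProj_ne hb, comp_zero]), Category.assoc, ι_coprodProj_self,
      Category.comp_id] at h0
    rw [h0, zero_comp]
  obtain ⟨N, g, δ, hT⟩ := distinguished_cocone_triangle c
  have hz : IsZero N := hdet N fun E hE φ => by
    have e1 : φ ≫ δ = 0 := by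
      have hc : (φ ≫ δ) ≫ c⟦(1 : ℤ)⟧' = 0 := by
        rw [Category.assoc, show δ ≫ c⟦(1 : ℤ)⟧' = 0 from comp_distTriang_mor_zero₃₁ _ hT, comp_zero]
      let χ : E⟦(-1 : ℤ)⟧ ⟶ ∐ fun i => R.obj (M i) :=
        (φ ≫ δ)⟦(-1 : ℤ)⟧' ≫ (shiftFunctorCompIsoId D' (1 : ℤ) (-1) (by simp)).hom.app _
      have hχ : χ ≫ c = 0 := by
        have hn := (shiftFunctorCompIsoId D' (1 : ℤ) (-1) (by simp)).hom.naturality c
        simp only [Functor.comp_map, Functor.id_map] at hn
        show ((φ ≫ δ)⟦(-1 : ℤ)⟧' ≫ _) ≫ c = 0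
        rw [Category.assoc, ← hn, ← Category.assoc, ← Functor.map_comp, hc, Functor.map_zero, zero_comp]
      have h1 : (φ ≫ δ)⟦(-1 : ℤ)⟧' = 0 := by
        have := inj _ (hshift E hE (-1)) χ hχ
        rwa [← cancel_mono ((shiftFunctorCompIsoId D' (1 : ℤ) (-1) (by simp)).hom.app _), zero_comp]
      exact (shiftFunctor D' (-1 : ℤ)).map_injective (h1.trans ((shiftFunctor D' (-1 : ℤ)).map_zero _ _).symm)
    obtain ⟨ψ, rfl⟩ := Triangle.coyoneda_exact₃ _ hT φ e1
    obtain ⟨ψ', rfl⟩ := surj E hE ψ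
    show (ψ' ≫ c) ≫ g = 0
    rw [Category.assoc, show c ≫ g = 0 from comp_distTriang_mor_zero₁₂ _ hT, comp_zero]
  exact (Triangle.isZero₃_iff_isIso₁ _ hT).1 hz

end Groth.Agent.EtSums
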